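import Groth.Agent.PowEtale.Basic
import Groth.Agent.SmoothReduced.Basic
import Groth.Prelude.Def_SGA7a
import Mathlib

/-!
# Inertia fixes the prime-to-p torsion of an abelian scheme
-/

set_option autoImplicit false
set_option backward.isDefEq.respectTransparency false
set_option synthInstance.maxHeartbeats 200000

universe u

open CategoryTheory Limits MonoidalCategory CartesianMonoidalCategory MonObj GrpObj AlgebraicGeometry

namespace Groth.Agent.InertiaFix

lemma geometricallyReduced_of_smooth {X Y : Scheme.{u}} (f : X ⟶ Y) [Smooth f] : GeometricallyReduced f :=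
  ⟨geometrically_iff_of_isClosedUnderIsomorphisms.mpr fun K _ s => by
    exact SmoothReduced.isReduced_of_smooth_scheme (pullback.snd f s)⟩

lemma geometricallyConnected_of_forall {X Y : Scheme.{u}} (f : X ⟶ Y)
    (h : ∀ (k' : Type u) [Field k'] (t : Spec (CommRingCat.of k') ⟶ Y), ConnectedSpace ↑(pullback f t)) :
    GeometricallyConnected f :=
  ⟨geometrically_iff_of_isClosedUnderIsomorphisms.mpr fun K _ s => h K s⟩

variable {R K Ω : Type u} [CommRing R] [IsLocalRing R] [Field K] [Algebra R K] [Field Ω] [Algebra K Ω]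

/-- Inertia fixes `n`-torsion points with values in `Ω` which extend to `W`-points, when the `n`-th
power map is etale. -/
theorem galAct_eq_of_lift (W : ValuationSubring Ω) (hW : SGA7.LiesOver K R W)
    (B : Over (Spec (CommRingCat.of R))) [GrpObj B] [IsSeparated B.hom] (n : ℕ)
    [Etale ((𝟙 B : B ⟶ B) ^ n).left]
    (σ : Ω ≃ₐ[K] Ω) (hσ : SGA7.IsInertia W σ)
    (y : SGA7.Pts Ω (Red.bc (Spec.map (CommRingCat.ofHom (algebraMap R K))) B)) (hy : y ^ n = 1)
    (z : Spec (CommRingCat.of W) ⟶ B.left)
    (hz₁ : Spec.map (CommRingCat.ofHom (algebraMap W Ω)) ≫ z =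
      y.left ≫ pullback.fst B.hom (Spec.map (CommRingCat.ofHom (algebraMap R K))))
    (hz₂ : z ≫ B.hom = Spec.map (CommRingCat.ofHom
      (((algebraMap K Ω).comp (algebraMap R K)).codRestrict W.toSubring hW.1))) :
    SGA7.galAct σ y = y := by
  let u := (𝟙 B : B ⟶ B) ^ n
  let sK : Spec (CommRingCat.of K) ⟶ Spec (CommRingCat.of R) := Spec.map (CommRingCat.ofHom (algebraMap R K))
  let y₀ : Spec (CommRingCat.of Ω) ⟶ B.left := y.left ≫ pullback.fst B.hom sK
  let c : R →+* W := ((algebraMap K Ω).comp (algebraMap R K)).codRestrict W.toSubring hW.1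
  let iW : Spec (CommRingCat.of Ω) ⟶ Spec (CommRingCat.of W) :=
    Spec.map (CommRingCat.ofHom (algebraMap W Ω))
  let bW : Spec (CommRingCat.of W) ⟶ Spec (CommRingCat.of R) := Spec.map (CommRingCat.ofHom c)
  have hb : iW ≫ bW = Spec.map (CommRingCat.ofHom (algebraMap K Ω)) ≫ sK := by
    rw [← Spec.map_comp, ← Spec.map_comp]; rfl
  have hy₀ : y₀ ≫ B.hom = iW ≫ bW := by
    rw [hb]
    change (y.left ≫ pullback.fst B.hom sK) ≫ B.hom = _
    have hw : y.left ≫ pullback.snd B.hom sK = Spec.map (CommRingCat.ofHom (algebraMap K Ω)) := Over.w y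
    rw [Category.assoc, pullback.condition, ← Category.assoc, hw]
  -- the torsion condition
  have htors : y₀ ≫ u.left = (iW ≫ bW) ≫ η[B].left := by
    have h1 := hy
    rw [← PowEtale.comp_pow_id (Red.bc sK B) y n, ← PowEtale.bc_map_pow] at h1
    have h2 := congrArg (fun z => z.left ≫ pullback.fst B.hom sK) h1
    rw [Over.comp_left, Category.assoc] at h2
    have h3 : ((Over.pullback sK).map u).left ≫ pullback.fst B.hom sK = pullback.fst B.hom sK ≫ u.left :=
      pullback.lift_fst _ _ _
    rw [h3] at h2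
    rw [← Category.assoc] at h2
    refine h2.trans ?_
    have h5 : (1 : SGA7.pt Ω ⟶ Red.bc sK B).left ≫ pullback.fst B.hom sK = (iW ≫ bW) ≫ η[B].left := by
      have e : (1 : SGA7.pt Ω ⟶ Red.bc sK B) = y ≫ (Over.pullback sK).map (1 : B ⟶ B) := by
        rw [Functor.map_one, MonObj.comp_one]
      rw [e, Over.comp_left, Category.assoc]
      have e2 : ((Over.pullback sK).map (1 : B ⟶ B)).left ≫ pullback.fst B.hom sK =
          pullback.fst B.hom sK ≫ (1 : B ⟶ B).left := pullback.lift_fst _ _ _
      rw [e2, Hom.one_def, Over.comp_left, Over.toUnit_left, ← Category.assoc, ← Category.assoc, hy₀]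
    exact h5
  have hzu : z ≫ u.left = bW ≫ η[B].left := by
    haveI : IsDominant iW := by
      refine ⟨?_⟩
      change DenseRange (PrimeSpectrum.comap (algebraMap W Ω))
      rw [PrimeSpectrum.denseRange_comap_iff_ker_le_nilRadical,
        (RingHom.injective_iff_ker_eq_bot _).mp (IsFractionRing.injective W Ω)]
      exact bot_le
    refine ext_of_isDominant_of_isSeparated B.hom ?_ iW ?_
    · rw [Category.assoc, Over.w u, hz₂, Category.assoc, Over.w η[B]]
      exact (Category.comp_id _).symm
    · rw [← Category.assoc, ← Category.assoc, hz₁]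
      exact htors
  -- the action on `W`
  let σW : W →+* W := ((σ : Ω →+* Ω).comp W.subtype).codRestrict W.toSubring fun w => (hσ w w.2).1
  have hres : (IsLocalRing.residue W).comp σW = IsLocalRing.residue W := by
    refine RingHom.ext fun w => ?_
    rw [RingHom.comp_apply, ← sub_eq_zero, ← map_sub, IsLocalRing.residue_eq_zero_iff]
    apply (ValuationSubring.valuation_lt_one_iff W _).mpr
    exact (hσ w w.2).2
  let τ : Spec (CommRingCat.of W) ⟶ Spec (CommRingCat.of W) := Spec.map (CommRingCat.ofHom σW)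
  have hτb : τ ≫ bW = bW := by
    rw [← Spec.map_comp]
    congr 1
    ext r
    exact σ.commutes _
  have heq : τ ≫ z = z := by
    refine PowEtale.eq_of_formallyUnramified u.left
      (Spec.map (CommRingCat.ofHom (IsLocalRing.residue W))) ?_ _ _ ?_ ?_
    · refine ⟨IsLocalRing.closedPoint (IsLocalRing.ResidueField W), PrimeSpectrum.ext ?_⟩
      change Ideal.comap (IsLocalRing.residue W) (IsLocalRing.maximalIdeal _) = IsLocalRing.maximalIdeal W
      rw [IsLocalRing.maximalIdeal_eq_bot, ← RingHom.ker_eq_comap_bot, IsLocalRing.ker_residue]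
    · rw [Category.assoc, hzu, ← Category.assoc, hτb]
    · rw [← Category.assoc, ← Spec.map_comp]
      congr 2
      exact CommRingCat.hom_ext hres
  have hstep : Spec.map (CommRingCat.ofHom (σ : Ω →+* Ω)) ≫ iW = iW ≫ τ := by
    rw [← Spec.map_comp, ← Spec.map_comp]; rfl
  apply Over.OverMorphism.ext
  change Spec.map (CommRingCat.ofHom (σ : Ω →+* Ω)) ≫ y.left = y.left
  have hw : y.left ≫ pullback.snd B.hom sK = Spec.map (CommRingCat.ofHom (algebraMap K Ω)) := Over.w y
  apply pullback.hom_ext
  · change (Spec.map (CommRingCat.ofHom (σ : Ω →+* Ω)) ≫ y.left) ≫ pullback.fst B.hom sK = y₀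
    rw [Category.assoc, show y.left ≫ pullback.fst B.hom sK = iW ≫ z from hz₁.symm,
      ← Category.assoc, hstep, Category.assoc, heq]
    exact hz₁
  · rw [Category.assoc, hw, SGA7.spec_map_algEquiv_comp]


/-- Inertia fixes `n`-torsion points with values in `Ω` of a proper group scheme over `R` whose `n`-th
power map is etale. -/
theorem galAct_eq (W : ValuationSubring Ω) (hW : SGA7.LiesOver K R W)
    (B : Over (Spec (CommRingCat.of R))) [GrpObj B] [IsProper B.hom] (n : ℕ)
    [Etale ((𝟙 B : B ⟶ B) ^ n).left]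
    (σ : Ω ≃ₐ[K] Ω) (hσ : SGA7.IsInertia W σ)
    (y : SGA7.Pts Ω (Red.bc (Spec.map (CommRingCat.ofHom (algebraMap R K))) B)) (hy : y ^ n = 1) :
    SGA7.galAct σ y = y := by
  let sK : Spec (CommRingCat.of K) ⟶ Spec (CommRingCat.of R) := Spec.map (CommRingCat.ofHom (algebraMap R K))
  let y₀ : Spec (CommRingCat.of Ω) ⟶ B.left := y.left ≫ pullback.fst B.hom sK
  let bW : Spec (CommRingCat.of W) ⟶ Spec (CommRingCat.of R) := Spec.map (CommRingCat.ofHom
    (((algebraMap K Ω).comp (algebraMap R K)).codRestrict W.toSubring hW.1))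
  have hy₀ : y₀ ≫ B.hom = Spec.map (CommRingCat.ofHom (algebraMap W Ω)) ≫ bW := by
    have hb : Spec.map (CommRingCat.ofHom (algebraMap W Ω)) ≫ bW =
        Spec.map (CommRingCat.ofHom (algebraMap K Ω)) ≫ sK := by
      rw [← Spec.map_comp, ← Spec.map_comp]; rfl
    rw [hb]
    change (y.left ≫ pullback.fst B.hom sK) ≫ B.hom = _
    have hw : y.left ≫ pullback.snd B.hom sK = Spec.map (CommRingCat.ofHom (algebraMap K Ω)) := Over.w y
    rw [Category.assoc, pullback.condition, ← Category.assoc, hw]
  obtain ⟨⟨⟨z, hz₁, hz₂⟩⟩⟩ := ((UniversallyClosed.eq_valuativeCriterion.le _ _ B.hom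
    (inferInstance : UniversallyClosed B.hom)).1)
      { R := W, K := Ω, i₁ := y₀, i₂ := bW, commSq := ⟨hy₀⟩ }
  exact galAct_eq_of_lift W hW B n σ hσ y hy z hz₁ hz₂

end Groth.Agent.InertiaFix
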